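import Cfsg.Agent.Mrg.Omega.NO3b.EZeroBase

section


/-!
# THEOREM A (bb OMEGA #20655, helper297; proof #21954, helper425): the calculus and the frame

`H` acts on the elementary abelian 2-group `W`; `n g w = g w + w`; `R ≤ C_W(H)`; `cm R E` is the preimage of
`C_{W/R}(E)`.

* `Dat X T O B R V lam` : `H` is faithful on `W/R`, `V` is generated by `R` and the `X`-conjugates of `lam`, `T`
  fixes `lam` modulo `R` and contains a Sylow 2-subgroup of `X`, `O` is normalised by the stabiliser of `lam`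
  modulo `R`, no elementary abelian `E ≤ O` has `|E| > |W : cm E|`, and `B ≤ O ∩ X` is a minimal exact group;
* `YY` : the elements of `H` trivial on `V/R` and on `W/V`; it is elementary abelian;
* `z u b = u u^b`.
-/

set_option autoImplicit false
set_option linter.unusedSectionVars false

namespace Cfsg.Agent.Omega.FOne.ThmR

open Subgroup

section ops

variable {H W : Type*} [Group H] [AddCommGroup W] [DistribMulAction H W]

/-- `g w + w` -/
def n (h : H) (w : W) : W := h • w + w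

theorem n_add (h : H) (v w : W) : n h (v + w) = n h v + n h w := by
  simp only [n, smul_add]; abel

theorem n_zero (h : H) : n h (0 : W) = 0 := by simp [n]

theorem n_neg (h : H) (w : W) : n h (-w) = - n h w := by
  simp only [n, smul_neg]; abel

/-- `n h` as an additive homomorphism -/
def nHom (h : H) : W →+ W where
  toFun := n h
  map_zero' := n_zero h
  map_add' := n_add h

@[simp] theorem nHom_apply (h : H) (w : W) : nHom h w = n h w := rfl

theorem n_conj (g h : H) (w : W) : n (g * h * g⁻¹) w = g • n h (g⁻¹ • w) := by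
  simp only [n, smul_add, mul_smul, smul_inv_smul]

/-- the preimage of the fixed points of `E` on `W / R` -/
def cm (R : AddSubgroup W) (E : Subgroup H) : AddSubgroup W where
  carrier := {w | ∀ e ∈ E, n e w ∈ R}
  zero_mem' := fun e _ => by rw [n_zero]; exact R.zero_mem
  add_mem' := fun ha hb e he => by rw [n_add]; exact R.add_mem (ha e he) (hb e he)
  neg_mem' := fun ha e he => by rw [n_neg]; exact R.neg_mem (ha e he)

theorem mem_cm {R : AddSubgroup W} {E : Subgroup H} {w : W} : w ∈ cm R E ↔ ∀ e ∈ E, n e w ∈ R := Iff.rfl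

theorem cm_anti {R : AddSubgroup W} {E F : Subgroup H} (h : E ≤ F) : cm R F ≤ cm R E :=
  fun _ hw e he => hw e (h he)

variable (two : ∀ w : W, w + w = 0)

include two

theorem n_mul (g h : H) (w : W) : n (g * h) w = n g w + n h w + n g (n h w) := by
  simp only [n, mul_smul, smul_add]
  have h1 := two (g • w)
  have h2 := two (h • w)
  have h3 := two w
  calc g • h • w + w = g • h • w + w + 0 + 0 + 0 := by abel
    _ = g • h • w + w + (g • w + g • w) + (h • w + h • w) + (w + w) := by rw [h1, h2, h3]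
    _ = g • w + w + (h • w + w) + (g • h • w + g • w + (h • w + w)) := by abel

theorem neg_eq (w : W) : -w = w := neg_eq_of_add_eq_zero_left (two w)

theorem eq_of_add_eq_zero {a b : W} (h : a + b = 0) : a = b := by
  rw [← neg_eq two b]; exact eq_neg_of_add_eq_zero_left h

theorem smul_eq (h : H) (w : W) : h • w = w + n h w := by
  have h3 := two w
  calc h • w = h • w + 0 := by abel
    _ = h • w + (w + w) := by rw [h3]
    _ = w + n h w := by rw [n]; abel

theorem n_inv (h : H) (w : W) : n h⁻¹ w = h⁻¹ • n h w := by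
  simp only [n, smul_add, inv_smul_smul]
  abel

theorem n_sq (h : H) (w : W) : n (h * h) w = n h (n h w) := by
  rw [n_mul two, two, zero_add]

theorem n_one (w : W) : n (1 : H) w = 0 := by
  rw [n, one_smul, two]

end ops

/-- The frame of THEOREM A. -/
structure Dat {H W : Type*} [Group H] [AddCommGroup W] [DistribMulAction H W] (X T O B : Subgroup H)
    (R V : AddSubgroup W) (lam : W) : Prop where
  two : ∀ w : W, w + w = 0
  fixR : ∀ (h : H), ∀ r ∈ R, h • r = r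
  faith : ∀ h : H, (∀ w : W, n h w ∈ R) → h = 1
  TX : T ≤ X
  T2 : IsPGroup 2 T
  syl : ¬ 2 ∣ T.relIndex X
  BO : B ≤ O
  BX : B ≤ X
  sqB : ∀ b ∈ B, b * b = 1
  quad : ∀ b ∈ B, ∀ c ∈ B, ∀ w, n c (n b w) ∈ R
  no : ∀ E ≤ O, (∀ e ∈ E, e * e = 1) → Nat.card E ≤ (cm R E).index
  ex : Nat.card B = (cm R B).index
  min : ∀ E ≤ B, E ≠ ⊥ → Nat.card E = (cm R E).index → E = B
  RV : R ≤ V
  XV : ∀ x ∈ X, ∀ v ∈ V, x • v ∈ V
  gen : ∀ U : AddSubgroup W, R ≤ U → (∀ x ∈ X, x • lam ∈ U) → V ≤ U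
  lamV : lam ∈ V
  Tlam : ∀ t ∈ T, n t lam ∈ R
  nO : ∀ h : H, n h lam ∈ R → ∀ o ∈ O, h * o * h⁻¹ ∈ O
  cover : ∀ w, ∃ v ∈ V, w + v ∈ cm R B

variable {H W : Type*} [Group H] [AddCommGroup W] [DistribMulAction H W] {X T O B : Subgroup H}
  {R V : AddSubgroup W} {lam : W}

namespace Dat

theorem nR (h : Dat X T O B R V lam) (g : H) {r : W} (hr : r ∈ R) : n g r = 0 := by
  rw [n, h.fixR g r hr, h.two]

theorem smulR (h : Dat X T O B R V lam) (g : H) {r : W} (hr : r ∈ R) : g • r ∈ R := by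
  rw [h.fixR g r hr]; exact hr

/-- equality of elements which agree modulo `R` -/
theorem eq_of (h : Dat X T O B R V lam) {a b : H} (hab : ∀ w : W, a • w + b • w ∈ R) : a = b := by
  have h1 : b⁻¹ * a = 1 := by
    refine h.faith _ fun w => ?_
    have h2 := h.smulR b⁻¹ (hab w)
    rwa [smul_add, inv_smul_smul, ← mul_smul] at h2
  exact (inv_mul_eq_one.1 h1).symm

/-- the elements trivial on `V / R` and on `W / V` -/
def YY (h : Dat X T O B R V lam) : Subgroup H where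
  carrier := {u | (∀ v ∈ V, n u v ∈ R) ∧ ∀ w, n u w ∈ V}
  one_mem' := ⟨fun v _ => by rw [n_one h.two]; exact R.zero_mem,
    fun w => by rw [n_one h.two]; exact V.zero_mem⟩
  mul_mem' := by
    rintro a b ⟨ha, ha'⟩ ⟨hb, hb'⟩
    refine ⟨fun v hv => ?_, fun w => ?_⟩
    · rw [n_mul h.two, h.nR a (hb v hv), add_zero]
      exact R.add_mem (ha v hv) (hb v hv)
    · rw [n_mul h.two]
      exact V.add_mem (V.add_mem (ha' w) (hb' w)) (ha' _)
  inv_mem' := by
    rintro a ⟨ha, ha'⟩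
    have hv : ∀ v ∈ V, n a⁻¹ v ∈ R := fun v hv => by
      rw [n_inv h.two]; exact h.smulR _ (ha v hv)
    refine ⟨hv, fun w => ?_⟩
    rw [n_inv h.two, smul_eq h.two]
    exact V.add_mem (ha' w) (h.RV (hv _ (ha' w)))

theorem mem_YY (h : Dat X T O B R V lam) {u : H} :
    u ∈ h.YY ↔ (∀ v ∈ V, n u v ∈ R) ∧ ∀ w, n u w ∈ V := Iff.rfl

theorem sq_YY (h : Dat X T O B R V lam) {u : H} (hu : u ∈ h.YY) : u * u = 1 :=
  h.faith _ fun w => by
    rw [n_sq h.two]; exact hu.1 _ (hu.2 w)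

theorem inv_YY (h : Dat X T O B R V lam) {u : H} (hu : u ∈ h.YY) : u⁻¹ = u :=
  inv_eq_of_mul_eq_one_right (h.sq_YY hu)

theorem comm_YY (h : Dat X T O B R V lam) {u v : H} (hu : u ∈ h.YY) (hv : v ∈ h.YY) : u * v = v * u := by
  have h1 := h.sq_YY (h.YY.mul_mem hu hv)
  have h2 : (u * v)⁻¹ = u * v := inv_eq_of_mul_eq_one_right h1
  rw [← h2, mul_inv_rev, h.inv_YY hu, h.inv_YY hv]

/-- `φ_u (φ_u x) = 0` -/
theorem n_self (h : Dat X T O B R V lam) {u : H} (hu : u ∈ h.YY) (w : W) : n u (n u w) = 0 := by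
  rw [← n_sq h.two, h.sq_YY hu, n_one h.two]

/-- symmetry -/
theorem n_symm (h : Dat X T O B R V lam) {u v : H} (huv : u * v = v * u) (w : W) :
    n u (n v w) = n v (n u w) := by
  have h1 := n_mul h.two u v w
  rw [huv, n_mul h.two] at h1
  have h2 : n v w + n u w + n v (n u w) = n v w + n u w + n u (n v w) := by
    rw [h1]; abel
  exact (add_left_cancel h2).symm

/-- `φ` is additive on `V` -/
theorem n_mul_V (h : Dat X T O B R V lam) {a b : H} (hb : b ∈ h.YY) {v : W} (hv : v ∈ V) :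
    n (a * b) v = n a v + n b v := by
  rw [n_mul h.two, h.nR a (hb.1 v hv), add_zero]

theorem conj_YY (h : Dat X T O B R V lam) {x : H} (hx : x ∈ X) {u : H} (hu : u ∈ h.YY) :
    x * u * x⁻¹ ∈ h.YY := by
  refine ⟨fun v hv => ?_, fun w => ?_⟩
  · rw [n_conj]; exact h.smulR _ (hu.1 _ (h.XV _ (X.inv_mem hx) v hv))
  · rw [n_conj]; exact h.XV _ hx _ (hu.2 _)

/-- `φ_{x u x⁻¹}(v) = φ_u(x⁻¹ v)` -/
theorem n_conj_V (h : Dat X T O B R V lam) {x : H} (hx : x ∈ X) {u : H} (hu : u ∈ h.YY) {v : W} (hv : v ∈ V) :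
    n (x * u * x⁻¹) v = n u (x⁻¹ • v) := by
  rw [n_conj, h.fixR _ _ (hu.1 _ (h.XV _ (X.inv_mem hx) v hv))]

theorem YY_normO (h : Dat X T O B R V lam) {u : H} (hu : u ∈ h.YY) {o : H} (ho : o ∈ O) : u * o * u⁻¹ ∈ O :=
  h.nO u (hu.1 _ h.lamV) o ho

theorem inv_B (h : Dat X T O B R V lam) {b : H} (hb : b ∈ B) : b⁻¹ = b :=
  inv_eq_of_mul_eq_one_right (h.sqB b hb)

theorem comm_B (h : Dat X T O B R V lam) {b c : H} (hb : b ∈ B) (hc : c ∈ B) : b * c = c * b := by
  have h2 : (b * c)⁻¹ = b * c := inv_eq_of_mul_eq_one_right (h.sqB _ (B.mul_mem hb hc))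
  rw [← h2, mul_inv_rev, h.inv_B hb, h.inv_B hc]

/-- `B` is trivial on `W / V` -/
theorem nBV (h : Dat X T O B R V lam) {b : H} (hb : b ∈ B) (w : W) : n b w ∈ V := by
  obtain ⟨v, hv, hw⟩ := h.cover w
  have h1 := hw b hb
  rw [n_add] at h1
  have h2 : n b v ∈ V := V.add_mem (h.XV b (h.BX hb) v hv) hv
  have h3 := V.add_mem (h.RV h1) h2
  rwa [add_assoc, h.two, add_zero] at h3

end Dat

/-- `z u b = u u^b` -/
def z (u b : H) : H := u * (b * u * b⁻¹)

namespace Dat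

theorem z_mem (h : Dat X T O B R V lam) {u b : H} (hu : u ∈ h.YY) (hb : b ∈ B) : z u b ∈ h.YY :=
  h.YY.mul_mem hu (h.conj_YY (h.BX hb) hu)

theorem z_memO (h : Dat X T O B R V lam) {u b : H} (hu : u ∈ h.YY) (hb : b ∈ B) : z u b ∈ O := by
  have h1 : z u b = (u * b * u⁻¹) * b⁻¹ := by
    rw [z, h.inv_YY hu]; group
  rw [h1]
  exact O.mul_mem (h.YY_normO hu (h.BO hb)) (O.inv_mem (h.BO hb))

theorem z_mul_left (h : Dat X T O B R V lam) {u v b : H} (hu : u ∈ h.YY) (hv : v ∈ h.YY) (hb : b ∈ B) :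
    z (u * v) b = z u b * z v b := by
  have h1 := h.comm_YY hv (h.conj_YY (h.BX hb) hu)
  calc z (u * v) b = u * (v * (b * u * b⁻¹)) * (b * v * b⁻¹) := by rw [z]; group
    _ = u * ((b * u * b⁻¹) * v) * (b * v * b⁻¹) := by rw [h1]
    _ = z u b * z v b := by rw [z, z]; group

/-- the exact formula: `n b⁻¹ x = 0` modulo `R` -/
theorem n_z_exact (h : Dat X T O B R V lam) {u b : H} (hu : u ∈ h.YY) (hb : b ∈ B) {x : W}
    (hx : x ∈ cm R B) : n (z u b) x = n b (n u x) + n u (n b (n u x)) := by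
  have h1 : b⁻¹ • x = x + n b⁻¹ x := smul_eq h.two _ _
  have h2 : n u (b⁻¹ • x) = n u x := by
    rw [h1, n_add, h.nR u (hx _ (B.inv_mem hb)), add_zero]
  have h3 : n (b * u * b⁻¹) x = n u x + n b (n u x) := by
    rw [n_conj, h2, smul_eq h.two]
  rw [z, n_mul h.two, h3, n_add, h.n_self hu]
  have h4 := h.two (n u x)
  calc n u x + (n u x + n b (n u x)) + (0 + n u (n b (n u x)))
      = (n u x + n u x) + n b (n u x) + n u (n b (n u x)) := by abel
    _ = _ := by rw [h4, zero_add]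

/-- `s_x(z(u,b)) ≡ n_b(s_x(u))` -/
theorem n_z (h : Dat X T O B R V lam) {u b : H} (hu : u ∈ h.YY) (hb : b ∈ B) (x : W) :
    n (z u b) x + n b (n u x) ∈ R := by
  obtain ⟨v, hv, hx⟩ := h.cover x
  have h1 := h.n_z_exact hu hb hx
  have h2 : n (z u b) v ∈ R := (h.z_mem hu hb).1 v hv
  have h3 : n b (n u v) = 0 := h.nR b (hu.1 v hv)
  have h4 : n u (n b (n u (x + v))) ∈ R := hu.1 _ (h.nBV hb _)
  have h5 : n b (n u (x + v)) = n b (n u x) := by rw [n_add, n_add, h3, add_zero]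
  rw [n_add, h5] at h1
  rw [h5] at h4
  have h6 : n (z u b) x + n b (n u x) = n u (n b (n u x)) + n (z u b) v := by
    have h7 := h.two (n (z u b) v)
    have h8 := h.two (n b (n u x))
    calc n (z u b) x + n b (n u x) = (n (z u b) x + n (z u b) v) + n b (n u x) + n (z u b) v
          - (n (z u b) v + n (z u b) v) := by abel
      _ = (n b (n u x) + n b (n u x)) + n u (n b (n u x)) + n (z u b) v
          - (n (z u b) v + n (z u b) v) := by rw [h1]; abel
      _ = _ := by rw [h7, h8]; abel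
  rw [h6]
  exact R.add_mem h4 h2

/-- `φ_{z(u,b)}(v) = φ_u(n_b v)` -/
theorem n_z_V (h : Dat X T O B R V lam) {u b : H} (hu : u ∈ h.YY) (hb : b ∈ B) {v : W} (hv : v ∈ V) :
    n (z u b) v = n u (n b v) := by
  rw [z, h.n_mul_V (h.conj_YY (h.BX hb) hu) hv, h.n_conj_V (h.BX hb) hu hv, ← n_add, h.inv_B hb, add_comm v]
  rfl

/-- `B` centralises `z(u,b)` -/
theorem z_commB (h : Dat X T O B R V lam) {u b c : H} (hu : u ∈ h.YY) (hb : b ∈ B) (hc : c ∈ B) :
    c * z u b * c⁻¹ = z u b := by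
  have hz := h.z_mem hu hb
  have h1 : z (z u b) c = 1 := by
    refine h.faith _ fun w => ?_
    have h2 := h.n_z hz hc w
    have h3 : n c (n (z u b) w) ∈ R := by
      have h4 := h.nR c (h.n_z hu hb w)
      rw [n_add] at h4
      rw [eq_of_add_eq_zero h.two h4]
      exact h.quad b hb c hc _
    have h5 := R.add_mem h2 h3
    rwa [add_assoc, h.two, add_zero] at h5
  have h2 : z u b * (c * z u b * c⁻¹) = 1 := h1
  rw [eq_inv_of_mul_eq_one_right h2, h.inv_YY hz]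

theorem z_mul_right (h : Dat X T O B R V lam) {u b c : H} (hu : u ∈ h.YY) (hb : b ∈ B) (hc : c ∈ B) :
    z u (b * c) = z u b * z u c := by
  have h1 := h.z_commB hu hc hb
  have h3 : b * u * b⁻¹ * (b * u * b⁻¹) = 1 := h.sq_YY (h.conj_YY (h.BX hb) hu)
  calc z u (b * c) = u * 1 * (b * c * u * c⁻¹ * b⁻¹) := by rw [z]; group
    _ = u * (b * u * b⁻¹ * (b * u * b⁻¹)) * (b * c * u * c⁻¹ * b⁻¹) := by rw [h3]
    _ = z u b * (b * z u c * b⁻¹) := by rw [z, z]; group
    _ = _ := by rw [h1]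

/-- the homomorphism `b ↦ z(u,b)` -/
def zHom (h : Dat X T O B R V lam) {u : H} (hu : u ∈ h.YY) : B →* H where
  toFun b := z u b
  map_one' := by simp [z, h.sq_YY hu]
  map_mul' b c := h.z_mul_right hu b.2 c.2

/-- `z(u,B)` -/
def Z (h : Dat X T O B R V lam) {u : H} (hu : u ∈ h.YY) : Subgroup H := (h.zHom hu).range

theorem mem_Z (h : Dat X T O B R V lam) {u : H} (hu : u ∈ h.YY) {y : H} :
    y ∈ h.Z hu ↔ ∃ b ∈ B, z u b = y := by
  constructor
  · rintro ⟨b, rfl⟩; exact ⟨b, b.2, rfl⟩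
  · rintro ⟨b, hb, rfl⟩; exact ⟨⟨b, hb⟩, rfl⟩

/-- `z(u,b) = 1` iff `b` and `u` commute -/
theorem z_eq_one (h : Dat X T O B R V lam) {u b : H} (hu : u ∈ h.YY) : z u b = 1 ↔ b * u * b⁻¹ = u := by
  rw [z, mul_eq_one_iff_inv_eq, h.inv_YY hu, eq_comm]

end Dat

end Cfsg.Agent.Omega.FOne.ThmR

end

section


/-!
# THEOREM A, step (1)

`u ∈ YY` does not centralise `B`: then `C_B(u) = 1`, `|z(u,B)| = |B| = |W : cm z(u,B)|`, `W = [W,u] + cm B`.
-/

set_option autoImplicit false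
set_option linter.unusedSectionVars false

namespace Cfsg.Agent.Omega.FOne.ThmR

open Subgroup

variable {H W : Type*} [Group H] [AddCommGroup W] [DistribMulAction H W] {X T O B : Subgroup H}
  {R V : AddSubgroup W} {lam : W}

/-- `C_B(u)` -/
def CB (B : Subgroup H) (u : H) : Subgroup H := B ⊓ centralizer {u}

theorem mem_CB {B : Subgroup H} {u b : H} : b ∈ CB B u ↔ b ∈ B ∧ b * u * b⁻¹ = u := by
  rw [CB, mem_inf, mem_centralizer_singleton_iff, mul_inv_eq_iff_eq_mul]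

namespace Dat

theorem mem_cm_Z (h : Dat X T O B R V lam) {u : H} (hu : u ∈ h.YY) {x : W} :
    x ∈ cm R (h.Z hu) ↔ n u x ∈ cm R B := by
  constructor
  · intro hx b hb
    have h1 := hx _ ((h.mem_Z hu).2 ⟨b, hb, rfl⟩)
    have h2 := R.add_mem h1 (h.n_z hu hb x)
    rwa [← add_assoc, h.two, zero_add] at h2
  · intro hx e he
    obtain ⟨b, hb, rfl⟩ := (h.mem_Z hu).1 he
    have h2 := R.add_mem (h.n_z hu hb x) (hx b hb)
    rwa [add_assoc, h.two, add_zero] at h2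

theorem cm_Z (h : Dat X T O B R V lam) {u : H} (hu : u ∈ h.YY) :
    cm R (h.Z hu) = (cm R B).comap (nHom u) := by
  ext x
  rw [h.mem_cm_Z hu, AddSubgroup.mem_comap, nHom_apply]

theorem Z_le_YY (h : Dat X T O B R V lam) {u : H} (hu : u ∈ h.YY) : h.Z hu ≤ h.YY := by
  intro y hy
  obtain ⟨b, hb, rfl⟩ := (h.mem_Z hu).1 hy
  exact h.z_mem hu hb

theorem Z_le_O (h : Dat X T O B R V lam) {u : H} (hu : u ∈ h.YY) : h.Z hu ≤ O := by
  intro y hy
  obtain ⟨b, hb, rfl⟩ := (h.mem_Z hu).1 hy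
  exact h.z_memO hu hb

theorem card_Z_mul (h : Dat X T O B R V lam) {u : H} (hu : u ∈ h.YY) :
    Nat.card (h.Z hu) * Nat.card (CB B u) = Nat.card B := by
  have h1 : Nat.card (CB B u) = Nat.card (h.zHom hu).ker := by
    have e : CB B u = (h.zHom hu).ker.map B.subtype := by
      ext b
      rw [mem_CB]
      constructor
      · rintro ⟨hb, hbu⟩
        exact ⟨⟨b, hb⟩, (h.z_eq_one hu).2 hbu, rfl⟩
      · rintro ⟨⟨b, hb⟩, hbu, rfl⟩
        exact ⟨hb, (h.z_eq_one hu).1 hbu⟩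
    rw [e]
    exact (Nat.card_congr ((h.zHom hu).ker.equivMapOfInjective B.subtype B.subtype_injective).toEquiv).symm
  have h2 : (h.zHom hu).ker.index = Nat.card (h.Z hu) := index_ker _
  rw [h1, ← h2, mul_comm]
  exact card_mul_index _

/-- Step (1). -/
theorem one [Finite H] [Finite W] (h : Dat X T O B R V lam) {u : H} (hu : u ∈ h.YY)
    (hne : ∃ b ∈ B, b * u * b⁻¹ ≠ u) :
    (∀ b ∈ B, b * u * b⁻¹ = u → b = 1) ∧ Nat.card (h.Z hu) = Nat.card B ∧
      (cm R (h.Z hu)).index = Nat.card B ∧ ∀ w, ∃ x, ∃ m ∈ cm R B, n u x + m = w := by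
  set K := cm R B with hK
  set S := (nHom (W := W) u).range with hS
  set C := cm R (CB B u) with hC
  have hSC : S ≤ C := by
    rintro _ ⟨x, rfl⟩ b hb
    have hb' := mem_CB.1 hb
    have h1 := h.n_z hu hb'.1 x
    rw [(h.z_eq_one hu).2 hb'.2, n_one h.two, zero_add] at h1
    exact h1
  have hKC : K ≤ C := cm_anti inf_le_left
  have e1 : (cm R (h.Z hu)).index = K.relIndex S := by
    rw [h.cm_Z hu, AddSubgroup.index_comap]
  have e2 : K.relIndex S * (S ⊔ K).index = K.index := by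
    have h1 : K.relIndex (S ⊔ K) = K.relIndex S := AddSubgroup.relIndex_sup_right _ _
    rw [← h1]
    exact AddSubgroup.relIndex_mul_index le_sup_right
  have e3 : C.index ≤ (S ⊔ K).index :=
    Nat.le_of_dvd (Nat.pos_of_ne_zero AddSubgroup.index_ne_zero_of_finite)
      (AddSubgroup.index_dvd_of_le (sup_le hSC hKC))
  have e4 : Nat.card (h.Z hu) ≤ K.relIndex S := by
    rw [← e1]
    exact h.no _ (h.Z_le_O hu) fun e he => h.sq_YY (h.Z_le_YY hu he)
  have e5 : Nat.card (CB B u) ≤ C.index :=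
    h.no _ (inf_le_left.trans h.BO) fun e he => h.sqB e (mem_CB.1 he).1
  have e6 := h.card_Z_mul hu
  have hex := h.ex
  have p1 : 0 < Nat.card (h.Z hu) := Nat.card_pos
  have p2 : 0 < Nat.card (CB B u) := Nat.card_pos
  have e7 : Nat.card (h.Z hu) * Nat.card (CB B u) = K.relIndex S * (S ⊔ K).index := by
    rw [e6, e2, hex]
  have e8 : (S ⊔ K).index = Nat.card (CB B u) := by
    by_contra hcon
    have h1 : Nat.card (CB B u) < (S ⊔ K).index := lt_of_le_of_ne (e5.trans e3) (Ne.symm hcon)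
    have h2 : Nat.card (h.Z hu) * Nat.card (CB B u) < K.relIndex S * (S ⊔ K).index := by
      calc Nat.card (h.Z hu) * Nat.card (CB B u) < Nat.card (h.Z hu) * (S ⊔ K).index := by
            exact Nat.mul_lt_mul_of_pos_left h1 p1
        _ ≤ _ := Nat.mul_le_mul_right _ e4
    exact absurd e7 h2.ne
  have e9 : K.relIndex S = Nat.card (h.Z hu) := by
    rw [e8] at e7
    exact (Nat.eq_of_mul_eq_mul_right p2 e7).symm
  have e10 : Nat.card (CB B u) = C.index := le_antisymm e5 (e3.trans e8.le)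
  -- `C_B(u) = 1`
  have hbot : CB B u = ⊥ := by
    by_contra hcon
    have h1 := h.min _ inf_le_left hcon e10
    obtain ⟨b, hb, hbu⟩ := hne
    rw [← h1] at hb
    exact hbu (mem_CB.1 hb).2
  have hc1 : Nat.card (CB B u) = 1 := by rw [hbot]; exact card_bot
  have hcZ : Nat.card (h.Z hu) = Nat.card B := by rw [← e6, hc1, mul_one]
  refine ⟨fun b hb hbu => ?_, hcZ, by rw [e1, e9, hcZ], fun w => ?_⟩
  · have h1 : b ∈ CB B u := mem_CB.2 ⟨hb, hbu⟩
    rw [hbot] at h1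
    exact mem_bot.1 h1
  · have h1 : S ⊔ K = ⊤ := by rw [← AddSubgroup.index_eq_one, e8, hc1]
    have h2 : w ∈ S ⊔ K := h1 ▸ AddSubgroup.mem_top w
    rw [AddSubgroup.mem_sup] at h2
    obtain ⟨_, ⟨x, rfl⟩, m, hm, h3⟩ := h2
    exact ⟨x, m, hm, h3⟩

end Dat

end Cfsg.Agent.Omega.FOne.ThmR

end

section


/-!
# THEOREM A, step (2): subgroups acting as 2-groups, the subgroup `L`

* `Odd X T D` : every `X`-conjugate of `T` meets `D` in a subgroup of odd index;
* `Dat.two_step` : if `D ≤ X` is `Odd` and acts as a 2-group on `V / (V ∩ A)`, `R ≤ A`, then `D` is trivial on it;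
* `LL` : `B ≤ L ≤ X`, `L = ⟨B^L⟩`, `Odd X T L`;  `Dat.exists_LL`.
-/

set_option autoImplicit false
set_option linter.unusedSectionVars false

namespace Cfsg.Agent.Omega.FOne.ThmR

open Subgroup

section grp

variable {H : Type*} [Group H]

theorem odd_of_normal [Finite H] {T D N : Subgroup H} (h : ¬ 2 ∣ T.relIndex D) (hND : N ≤ D)
    (hn : ∀ d ∈ D, ∀ m ∈ N, d * m * d⁻¹ ∈ N) : ¬ 2 ∣ T.relIndex N := by
  set T' : Subgroup D := T.subgroupOf D with hT'
  set N' : Subgroup D := N.subgroupOf D with hN'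
  have hnor : N'.Normal := ⟨fun m hm d => by
    rw [hN', mem_subgroupOf] at hm ⊢
    exact hn d d.2 m hm⟩
  have e1 : T.relIndex N = T'.relIndex N' := (relIndex_subgroupOf hND).symm
  rw [e1]
  have h1 : N'.relIndex (N' ⊔ T') = N'.relIndex T' := Subgroup.relIndex_sup_left _ _
  have h2 := Subgroup.relIndex_mul_relIndex (N' ⊓ T') N' (N' ⊔ T') inf_le_left le_sup_left
  have h3 := Subgroup.relIndex_mul_relIndex (N' ⊓ T') T' (N' ⊔ T') inf_le_right le_sup_right
  have h4 : (N' ⊓ T').relIndex T' = N'.relIndex T' := Subgroup.inf_relIndex_right N' T'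
  have h4' : (N' ⊓ T').relIndex N' = T'.relIndex N' := Subgroup.inf_relIndex_left N' T'
  rw [h1, h4'] at h2
  rw [h4, ← h2, mul_comm] at h3
  have h5 : T'.relIndex (N' ⊔ T') = T'.relIndex N' :=
    Nat.eq_of_mul_eq_mul_right (Nat.pos_of_ne_zero (Subgroup.index_ne_zero_of_finite
      (H := N'.subgroupOf T'))) h3
  intro h7
  rw [← h5] at h7
  have h6 := Subgroup.relIndex_mul_index (H := T') (K := N' ⊔ T') le_sup_right
  exact h (h6 ▸ h7.mul_right _ : 2 ∣ T'.index)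

/-- `T^x` -/
def cjT (x : H) (T : Subgroup H) : Subgroup H := T.map (MulAut.conj x).toMonoidHom

theorem mem_cjT {x y : H} {T : Subgroup H} : y ∈ cjT x T ↔ ∃ t ∈ T, x * t * x⁻¹ = y := Iff.rfl

/-- every conjugate of `T` under `X` has odd relative index in `D` -/
def OddX (X T D : Subgroup H) : Prop := ∀ x ∈ X, ¬ 2 ∣ (cjT x T).relIndex D

theorem OddX.of_normal [Finite H] {X T D N : Subgroup H} (h : OddX X T D) (hND : N ≤ D)
    (hn : ∀ d ∈ D, ∀ m ∈ N, d * m * d⁻¹ ∈ N) : OddX X T N := fun x hx => odd_of_normal (h x hx) hND hn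

theorem oddX_self {X T : Subgroup H} (h : ¬ 2 ∣ T.relIndex X) : OddX X T X := by
  intro x hx
  have e : cjT x X = X := by
    ext y
    rw [mem_cjT]
    constructor
    · rintro ⟨t, ht, rfl⟩
      exact X.mul_mem (X.mul_mem hx ht) (X.inv_mem hx)
    · intro hy
      exact ⟨x⁻¹ * y * x, X.mul_mem (X.mul_mem (X.inv_mem hx) hy) hx, by group⟩
  have h1 : (cjT x T).relIndex (cjT x X) = T.relIndex X :=
    relIndex_map_map_of_injective (f := (MulAut.conj x).toMonoidHom) T X (MulAut.conj x).injective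
  rw [e] at h1
  rwa [h1]

/-- a subgroup of odd relative index covers the quotients which are 2-groups -/
theorem cover_of_two [Finite H] {S D K : Subgroup H} (h : ¬ 2 ∣ S.relIndex D)
    (hn : ∀ d ∈ D, ∀ m ∈ K, d * m * d⁻¹ ∈ K) (h2 : ∀ d ∈ D, ∃ k : ℕ, d ^ 2 ^ k ∈ K) :
    ∀ d ∈ D, ∃ s ∈ S, s ∈ D ∧ ∃ k ∈ K, d = s * k := by
  have : Fact (Nat.Prime 2) := ⟨Nat.prime_two⟩
  set S' : Subgroup D := S.subgroupOf D with hS'
  set K' : Subgroup D := K.subgroupOf D with hK'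
  have hnor : K'.Normal := ⟨fun m hm d => by
    rw [hK', mem_subgroupOf] at hm ⊢
    exact hn d d.2 m hm⟩
  have hp : IsPGroup 2 (D ⧸ K') := by
    intro q
    obtain ⟨d, rfl⟩ := QuotientGroup.mk_surjective q
    obtain ⟨k, hk⟩ := h2 d d.2
    refine ⟨k, ?_⟩
    rw [← QuotientGroup.mk_pow, QuotientGroup.eq_one_iff, hK', mem_subgroupOf]
    simpa using hk
  have h3 : ((S' ⊔ K').map (QuotientGroup.mk' K')).index = (S' ⊔ K').index :=
    index_map_eq _ (QuotientGroup.mk'_surjective K') (by rw [QuotientGroup.ker_mk']; exact le_sup_right)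
  obtain ⟨j, hj⟩ := hp.index ((S' ⊔ K').map (QuotientGroup.mk' K'))
  have h4 : (S' ⊔ K').index ∣ S'.index := index_dvd_of_le le_sup_left
  have h5 : (S' ⊔ K').index = 1 := by
    rw [h3] at hj
    rcases Nat.eq_zero_or_pos j with rfl | hj0
    · rw [hj, pow_zero]
    · exact absurd ((dvd_pow_self 2 hj0.ne').trans (hj ▸ h4)) h
  rw [index_eq_one] at h5
  intro d hd
  have h6 : (⟨d, hd⟩ : D) ∈ S' ⊔ K' := h5 ▸ mem_top _
  rw [mem_sup_of_normal_right] at h6
  obtain ⟨s, hs, k, hk, h7⟩ := h6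
  refine ⟨s, mem_subgroupOf.1 hs, s.2, k, mem_subgroupOf.1 hk, ?_⟩
  have := congrArg Subtype.val h7
  simpa using this.symm

end grp

variable {H W : Type*} [Group H] [AddCommGroup W] [DistribMulAction H W] {X T O B : Subgroup H}
  {R V : AddSubgroup W} {lam : W}

namespace Dat

/-- a subgroup `D ≤ X`, `OddX`, acting as a 2-group on `V / (V ∩ A)` is trivial on it -/
theorem two_step [Finite H] (h : Dat X T O B R V lam) {D : Subgroup H} (hDX : D ≤ X) (hS : OddX X T D)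
    {A : AddSubgroup W} (hRA : R ≤ A) (hA : ∀ d ∈ D, ∀ a ∈ A, d • a ∈ A)
    (h2 : ∀ d ∈ D, ∃ k : ℕ, ∀ v ∈ V, n (d ^ 2 ^ k) v ∈ A) : ∀ d ∈ D, ∀ v ∈ V, n d v ∈ A := by
  have hnA : ∀ d ∈ D, ∀ a ∈ A, n d a ∈ A := fun d hd a ha => A.add_mem (hA d hd a ha) ha
  have key : V ≤ cm A D := by
    let K : Subgroup H :=
      { carrier := {d | d ∈ D ∧ ∀ v ∈ V, n d v ∈ A}
        one_mem' := ⟨D.one_mem, fun v _ => by rw [n_one h.two]; exact A.zero_mem⟩
        mul_mem' := by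
          rintro a b ⟨ha, ha'⟩ ⟨hb, hb'⟩
          refine ⟨D.mul_mem ha hb, fun v hv => ?_⟩
          rw [n_mul h.two]
          exact A.add_mem (A.add_mem (ha' v hv) (hb' v hv)) (hnA a ha _ (hb' v hv))
        inv_mem' := by
          rintro a ⟨ha, ha'⟩
          refine ⟨D.inv_mem ha, fun v hv => ?_⟩
          rw [n_inv h.two]
          exact hA _ (D.inv_mem ha) _ (ha' v hv) }
    have hKn : ∀ d ∈ D, ∀ m ∈ K, d * m * d⁻¹ ∈ K := by
      rintro d hd m ⟨hm, hm'⟩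
      refine ⟨D.mul_mem (D.mul_mem hd hm) (D.inv_mem hd), fun v hv => ?_⟩
      rw [n_conj]
      exact hA _ hd _ (hm' _ (h.XV _ (X.inv_mem (hDX hd)) v hv))
    refine h.gen _ (fun r hr d hd => ?_) (fun x hx d hd => ?_)
    · rw [h.nR d hr]; exact A.zero_mem
    · obtain ⟨s, hs, hsD, k, hk, rfl⟩ := cover_of_two (K := K) (hS x hx) hKn
        (fun d hd => by
          obtain ⟨k, hk⟩ := h2 d hd
          exact ⟨k, D.pow_mem hd _, hk⟩) d hd
      have hxV : x • lam ∈ V := h.XV x hx _ h.lamV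
      obtain ⟨t, ht, rfl⟩ := hs
      have h3 : n (MulAut.conj x t : H) (x • lam) ∈ A := by
        rw [MulAut.conj_apply, n_conj, inv_smul_smul]
        exact hRA (h.smulR x (h.Tlam t ht))
      have h4 : n k (x • lam) ∈ A := hk.2 _ hxV
      rw [n_mul h.two]
      exact A.add_mem (A.add_mem h3 h4) (hnA _ hsD _ h4)
  intro d hd v hv
  exact key hv d hd

end Dat

/-- `B ≤ L ≤ X`, `L` is generated by the `L`-conjugates of `B`, and `OddX`. -/
structure LL (X T B L : Subgroup H) : Prop where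
  BL : B ≤ L
  LX : L ≤ X
  odd : OddX X T L
  gen : ∀ U : Subgroup H, (∀ l ∈ L, ∀ b ∈ B, l * b * l⁻¹ ∈ U) → L ≤ U

theorem Dat.exists_LL [Finite H] (h : Dat X T O B R V lam) : ∃ L, LL X T B L := by
  classical
  obtain ⟨L, ⟨hBL, hLX, ho⟩, hmin⟩ := WellFounded.has_min
    (InvImage.wf (fun L : Subgroup H => Nat.card L) Nat.lt_wfRel.wf)
    {L : Subgroup H | B ≤ L ∧ L ≤ X ∧ OddX X T L} ⟨X, h.BX, le_rfl, oddX_self h.syl⟩
  refine ⟨L, hBL, hLX, ho, ?_⟩
  -- the subgroup generated by the conjugates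
  let N : Subgroup H := closure {y | ∃ l ∈ L, ∃ b ∈ B, y = l * b * l⁻¹}
  have hNL : N ≤ L := by
    rw [closure_le]
    rintro _ ⟨l, hl, b, hb, rfl⟩
    exact L.mul_mem (L.mul_mem hl (hBL hb)) (L.inv_mem hl)
  have hBN : B ≤ N := fun b hb => subset_closure ⟨1, L.one_mem, b, hb, by group⟩
  have hn : ∀ d ∈ L, ∀ m ∈ N, d * m * d⁻¹ ∈ N := by
    intro d hd m hm
    refine closure_induction (p := fun m _ => d * m * d⁻¹ ∈ N) ?_ ?_ ?_ ?_ hm
    · rintro _ ⟨l, hl, b, hb, rfl⟩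
      exact subset_closure ⟨d * l, L.mul_mem hd hl, b, hb, by group⟩
    · simp
    · intro a b _ _ ha hb
      have : d * (a * b) * d⁻¹ = (d * a * d⁻¹) * (d * b * d⁻¹) := by group
      rw [this]; exact N.mul_mem ha hb
    · intro a _ ha
      have : d * a⁻¹ * d⁻¹ = (d * a * d⁻¹)⁻¹ := by group
      rw [this]; exact N.inv_mem ha
  have hN : N ∈ {L : Subgroup H | B ≤ L ∧ L ≤ X ∧ OddX X T L} :=
    ⟨hBN, hNL.trans hLX, ho.of_normal hNL hn⟩
  have h1 : ¬ Nat.card N < Nat.card L := hmin N hN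
  have h2 : N = L := eq_of_le_of_card_ge hNL (not_lt.1 h1)
  intro U hU
  rw [← h2, closure_le]
  rintro _ ⟨l, hl, b, hb, rfl⟩
  exact hU l hl b hb

namespace Dat

variable {L : Subgroup H}

/-- `L` is trivial on `W / V` -/
theorem nLV (h : Dat X T O B R V lam) (hL : LL X T B L) {l : H} (hl : l ∈ L) (w : W) : n l w ∈ V := by
  let U : Subgroup H :=
    { carrier := {x | x ∈ X ∧ ∀ w, n x w ∈ V}
      one_mem' := ⟨X.one_mem, fun w => by rw [n_one h.two]; exact V.zero_mem⟩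
      mul_mem' := by
        rintro a b ⟨ha, ha'⟩ ⟨hb, hb'⟩
        refine ⟨X.mul_mem ha hb, fun w => ?_⟩
        rw [n_mul h.two]
        exact V.add_mem (V.add_mem (ha' w) (hb' w)) (ha' _)
      inv_mem' := by
        rintro a ⟨ha, ha'⟩
        refine ⟨X.inv_mem ha, fun w => ?_⟩
        rw [n_inv h.two]
        exact h.XV _ (X.inv_mem ha) _ (ha' w) }
  have h1 : L ≤ U := hL.gen U fun l hl b hb => by
    refine ⟨X.mul_mem (X.mul_mem (hL.LX hl) (h.BX hb)) (X.inv_mem (hL.LX hl)), fun w => ?_⟩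
    rw [n_conj]
    exact h.XV _ (hL.LX hl) _ (h.nBV hb _)
  exact (h1 hl).2 w

/-- the vectors of `V` fixed by `L` modulo `R` -/
def CV (V R : AddSubgroup W) (L : Subgroup H) : AddSubgroup W := V ⊓ cm R L

/-- (c) an element of `B` trivial on `V / C_V(L)` is 1 -/
theorem eq_one_of_CV [Finite H] (h : Dat X T O B R V lam) (hL : LL X T B L) {b : H} (hb : b ∈ B)
    (hbv : ∀ v ∈ V, n b v ∈ cm R L) : b = 1 := by
  -- the subgroup of the elements of `L` trivial on `V / C_V(L)`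
  have hsm : ∀ l ∈ L, ∀ a ∈ cm R L, l • a ∈ cm R L := by
    intro l hl a ha g hg
    have e : n g (l • a) = l • n (l⁻¹ * g * l) a := by
      have h1 := n_conj l (l⁻¹ * g * l) (l • a)
      rw [inv_smul_smul] at h1
      rw [← h1]; congr 1; group
    rw [e]
    exact h.smulR l (ha _ (L.mul_mem (L.mul_mem (L.inv_mem hl) hg) hl))
  let D : Subgroup H :=
    { carrier := {d | d ∈ L ∧ ∀ v ∈ V, n d v ∈ cm R L}
      one_mem' := ⟨L.one_mem, fun v _ => by rw [n_one h.two]; exact (cm R L).zero_mem⟩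
      mul_mem' := by
        rintro a b ⟨ha, ha'⟩ ⟨hb, hb'⟩
        refine ⟨L.mul_mem ha hb, fun v hv => ?_⟩
        rw [n_mul h.two]
        refine (cm R L).add_mem ((cm R L).add_mem (ha' v hv) (hb' v hv)) ?_
        exact (cm R L).add_mem (hsm a ha _ (hb' v hv)) (hb' v hv)
      inv_mem' := by
        rintro a ⟨ha, ha'⟩
        refine ⟨L.inv_mem ha, fun v hv => ?_⟩
        rw [n_inv h.two]
        exact hsm _ (L.inv_mem ha) _ (ha' v hv) }
  have hDn : ∀ d ∈ L, ∀ m ∈ D, d * m * d⁻¹ ∈ D := by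
    rintro d hd m ⟨hm, hm'⟩
    refine ⟨L.mul_mem (L.mul_mem hd hm) (L.inv_mem hd), fun v hv => ?_⟩
    rw [n_conj]
    exact hsm _ hd _ (hm' _ (h.XV _ (X.inv_mem (hL.LX hd)) v hv))
  have h1 : ∀ d ∈ D, ∀ v ∈ V, n d v ∈ R := by
    have hDL : D ≤ L := fun d hd => hd.1
    refine h.two_step (D := D) (hDL.trans hL.LX) (hL.odd.of_normal hDL hDn) le_rfl
      (fun d _ a ha => h.smulR d ha) ?_
    rintro d ⟨hd, hd'⟩
    refine ⟨1, fun v hv => ?_⟩
    rw [pow_one, pow_two, n_sq h.two]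
    exact hd' v hv d hd
  refine h.faith b fun w => ?_
  obtain ⟨v, hv, hw⟩ := h.cover w
  have h2 := hw b hb
  rw [n_add] at h2
  have h3 := R.add_mem h2 (h1 b ⟨hL.BL hb, hbv⟩ v hv)
  rwa [add_assoc, h.two, add_zero] at h3

end Dat

end Cfsg.Agent.Omega.FOne.ThmR

end

section


/-!
# THEOREM A, step (3): the minimal `L`-invariant subgroup `C` of `YY` which moves `[V, l]`, `l` odd
-/

set_option autoImplicit false
set_option linter.unusedSectionVars false

namespace Cfsg.Agent.Omega.FOne.ThmR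

open Subgroup

variable {H W : Type*} [Group H] [AddCommGroup W] [DistribMulAction H W] {X T O B L : Subgroup H}
  {R V : AddSubgroup W} {lam : W}

/-- odd order -/
def OddE (l : H) : Prop := ∃ m : ℕ, Odd m ∧ l ^ m = 1

theorem OddE.conj {l : H} (h : OddE l) (a : H) : OddE (a * l * a⁻¹) := by
  obtain ⟨m, hm, hl⟩ := h
  exact ⟨m, hm, by rw [conj_pow, hl]; group⟩

/-- `c` centralises `[V, l]` for every odd `l ∈ L` -/
def PP (L : Subgroup H) (V : AddSubgroup W) (c : H) : Prop := ∀ l ∈ L, OddE l → ∀ v ∈ V, n c (n l v) = 0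

/-- `D` centralises `[V, l]` for every odd `l ∈ L` -/
def NN (L : Subgroup H) (V : AddSubgroup W) (D : Subgroup H) : Prop := ∀ d ∈ D, PP L V d

/-- the minimal group and its generator -/
structure Mn (h : Dat X T O B R V lam) (L C : Subgroup H) (c₁ : H) : Prop where
  CY : C ≤ h.YY
  LI : ∀ l ∈ L, ∀ c ∈ C, l * c * l⁻¹ ∈ C
  c1 : c₁ ∈ C
  gen : ∀ U : Subgroup H, (∀ l ∈ L, ∀ b ∈ B, l * z c₁ b * l⁻¹ ∈ U) → C ≤ U
  nn : ¬ NN L V C

namespace Dat

theorem n_memV (h : Dat X T O B R V lam) {x : H} (hx : x ∈ X) {v : W} (hv : v ∈ V) : n x v ∈ V :=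
  V.add_mem (h.XV x hx v hv) hv

theorem PP_one (h : Dat X T O B R V lam) : PP L V (1 : H) := fun _ _ _ _ _ => n_one h.two _

theorem PP.mul (h : Dat X T O B R V lam) (hLX : L ≤ X) {a b : H} (hb : b ∈ h.YY) (pa : PP L V a)
    (pb : PP L V b) : PP L V (a * b) := fun l hl ho v hv => by
  rw [h.n_mul_V hb (h.n_memV (hLX hl) hv), pa l hl ho v hv, pb l hl ho v hv, add_zero]

theorem smul_n (x l : H) (v : W) : x⁻¹ • n l v = n (x⁻¹ * l * x) (x⁻¹ • v) := by
  have h1 := n_conj x⁻¹ l (x⁻¹ • v)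
  rw [inv_inv, smul_inv_smul] at h1
  rw [h1]

theorem PP.conj (h : Dat X T O B R V lam) (hLX : L ≤ X) {x c : H} (hx : x ∈ L) (hc : c ∈ h.YY)
    (pc : PP L V c) : PP L V (x * c * x⁻¹) := fun l hl ho v hv => by
  rw [h.n_conj_V (hLX hx) hc (h.n_memV (hLX hl) hv), smul_n]
  have ho' : OddE (x⁻¹ * l * x) := by simpa using ho.conj x⁻¹
  exact pc _ (L.mul_mem (L.mul_mem (L.inv_mem hx) hl) hx) ho' _ (h.XV _ (X.inv_mem (hLX hx)) v hv)

/-- the function `v ↦ n c (n l v)` is invariant under the odd element `l`: then it is 0 -/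
theorem n_odd' (h : Dat X T O B R V lam) (hLX : L ≤ X) {c l : H} (hl : l ∈ L) (ho : OddE l)
    (h1 : ∀ v ∈ V, n c (n l v) = n c (n l (l⁻¹ • v))) : ∀ v ∈ V, n c (n l v) = 0 := by
  have h2 : ∀ v ∈ V, n c (n l (l • v)) = n c (n l v) := by
    intro v hv
    have h3 := h1 (l • v) (h.XV _ (hLX hl) v hv)
    rwa [inv_smul_smul] at h3
  have h3 : ∀ k : ℕ, ∀ v ∈ V, n c (n l (l ^ k • v)) = n c (n l v) := by
    intro k
    induction k with
    | zero => intro v _; rw [pow_zero, one_smul]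
    | succ k ih =>
      intro v hv
      rw [pow_succ', mul_smul, h2 _ (h.XV _ (X.pow_mem (hLX hl) k) v hv), ih v hv]
  have h4 : ∀ k : ℕ, ∀ v ∈ V, n c (l ^ k • v) = n c v + k • n c (n l v) := by
    intro k
    induction k with
    | zero => intro v _; rw [pow_zero, one_smul, zero_smul, add_zero]
    | succ k ih =>
      intro v hv
      have h5 : l ^ (k + 1) • v = l ^ k • v + n l (l ^ k • v) := by
        rw [pow_succ', mul_smul, smul_eq h.two]
      rw [h5, n_add, h3 k v hv, ih v hv, add_smul, one_smul, add_assoc]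
  obtain ⟨m, hm, hlm⟩ := ho
  intro v hv
  have h5 := h4 m v hv
  rw [hlm, one_smul] at h5
  have h6 : m • n c (n l v) = 0 := (add_eq_left.1 h5.symm)
  obtain ⟨j, rfl⟩ := hm
  have h7 : (2 * j) • n c (n l v) = 0 := by
    rw [mul_comm, mul_smul, two_smul, h.two, smul_zero]
  rwa [add_smul, h7, zero_add, one_smul] at h6

/-- if `c (l c l⁻¹)` centralises `[V, l]`, `l` odd, then so does `c` -/
theorem n_odd (h : Dat X T O B R V lam) (hLX : L ≤ X) {c l : H} (hc : c ∈ h.YY) (hl : l ∈ L) (ho : OddE l)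
    (hP : ∀ v ∈ V, n (c * (l * c * l⁻¹)) (n l v) = 0) : ∀ v ∈ V, n c (n l v) = 0 := by
  refine h.n_odd' hLX hl ho fun v hv => ?_
  have h2 := hP v hv
  rw [h.n_mul_V (h.conj_YY (hLX hl) hc) (h.n_memV (hLX hl) hv),
    h.n_conj_V (hLX hl) hc (h.n_memV (hLX hl) hv), smul_n] at h2
  have h3 : l⁻¹ * l * l = l := by group
  rw [h3] at h2
  exact eq_of_add_eq_zero h.two h2

theorem exists_mn [Finite H] (h : Dat X T O B R V lam) (hL : LL X T B L) (hnn : ¬ NN L V h.YY) :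
    ∃ C c₁, Mn h L C c₁ := by
  classical
  obtain ⟨C, ⟨hCY, hLI, hC⟩, hmin⟩ := WellFounded.has_min
    (InvImage.wf (fun C : Subgroup H => Nat.card C) Nat.lt_wfRel.wf)
    {C : Subgroup H | C ≤ h.YY ∧ (∀ l ∈ L, ∀ c ∈ C, l * c * l⁻¹ ∈ C) ∧ ¬ NN L V C}
    ⟨h.YY, le_rfl, fun l hl c hc => h.conj_YY (hL.LX hl) hc, hnn⟩
  let Dc : H → Subgroup H := fun c => closure {y | ∃ l ∈ L, ∃ b ∈ B, y = l * z c b * l⁻¹}
  have hDC : ∀ c ∈ C, Dc c ≤ C := by
    intro c hc
    change Subgroup.closure _ ≤ C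
    rw [closure_le]
    rintro _ ⟨l, hl, b, hb, rfl⟩
    exact hLI l hl _ (C.mul_mem hc (hLI b (hL.BL hb) c hc))
  have hDn : ∀ c, ∀ d ∈ L, ∀ m ∈ Dc c, d * m * d⁻¹ ∈ Dc c := by
    intro c d hd m hm
    refine closure_induction (p := fun m _ => d * m * d⁻¹ ∈ Dc c) ?_ ?_ ?_ ?_ hm
    · rintro _ ⟨l, hl, b, hb, rfl⟩
      exact subset_closure ⟨d * l, L.mul_mem hd hl, b, hb, by group⟩
    · simp
    · intro a b _ _ ha hb
      have : d * (a * b) * d⁻¹ = (d * a * d⁻¹) * (d * b * d⁻¹) := by group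
      rw [this]; exact (Dc c).mul_mem ha hb
    · intro a _ ha
      have : d * a⁻¹ * d⁻¹ = (d * a * d⁻¹)⁻¹ := by group
      rw [this]; exact (Dc c).inv_mem ha
  by_cases hex : ∃ c ∈ C, Dc c = C
  · obtain ⟨c₁, hc₁, he⟩ := hex
    refine ⟨C, c₁, hCY, hLI, hc₁, fun U hU => ?_, hC⟩
    rw [← he]
    change Subgroup.closure _ ≤ U
    rw [closure_le]
    rintro _ ⟨l, hl, b, hb, rfl⟩
    exact hU l hl b hb
  push Not at hex
  exfalso
  have hD : ∀ c ∈ C, NN L V (Dc c) := by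
    intro c hc
    by_contra hcon
    have h1 := hmin (Dc c) ⟨(hDC c hc).trans hCY, hDn c, hcon⟩
    exact hex c hc (eq_of_le_of_card_ge (hDC c hc) (not_lt.1 h1))
  -- the elements `l` of `L` with `c (l c l⁻¹)` centralising `[V, odd]` for all `c ∈ C`
  have hcon : ∀ {l c : H}, l ∈ L → c ∈ C → l * c * l⁻¹ ∈ C := fun {l c} hl hc => hLI l hl c hc
  let U : Subgroup H :=
    { carrier := {l | l ∈ L ∧ ∀ c ∈ C, PP L V (c * (l * c * l⁻¹))}
      one_mem' := ⟨L.one_mem, fun c hc => by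
        have : c * (1 * c * 1⁻¹) = 1 := by
          rw [one_mul, inv_one, mul_one]; exact h.sq_YY (hCY hc)
        rw [this]; exact h.PP_one⟩
      mul_mem' := by
        rintro a b ⟨ha, ha'⟩ ⟨hb, hb'⟩
        refine ⟨L.mul_mem ha hb, fun c hc => ?_⟩
        have e : c * (a * b * c * (a * b)⁻¹) = (c * (a * c * a⁻¹)) * (a * (c * (b * c * b⁻¹)) * a⁻¹) := by
          have h1 : c * c = 1 := h.sq_YY (hCY hc)
          calc c * (a * b * c * (a * b)⁻¹) = c * a * 1 * b * c * b⁻¹ * a⁻¹ := by group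
            _ = c * a * (c * c) * b * c * b⁻¹ * a⁻¹ := by rw [h1]
            _ = _ := by group
        have hm : c * (b * c * b⁻¹) ∈ h.YY := hCY (C.mul_mem hc (hcon hb hc))
        rw [e]
        exact PP.mul h hL.LX (h.conj_YY (hL.LX ha) hm) (ha' c hc) (PP.conj h hL.LX ha hm (hb' c hc))
      inv_mem' := by
        rintro a ⟨ha, ha'⟩
        refine ⟨L.inv_mem ha, fun c hc => ?_⟩
        have h1 : c * (a * c * a⁻¹) = (a * c * a⁻¹) * c :=
          h.comm_YY (hCY hc) (hCY (hcon ha hc))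
        have e : c * (a⁻¹ * c * a⁻¹⁻¹) = a⁻¹ * (c * (a * c * a⁻¹)) * a⁻¹⁻¹ := by
          rw [h1]; group
        have hm : c * (a * c * a⁻¹) ∈ h.YY := hCY (C.mul_mem hc (hcon ha hc))
        rw [e]
        exact PP.conj h hL.LX (L.inv_mem ha) hm (ha' c hc) }
  have hLU : L ≤ U := by
    refine hL.gen U fun l hl b hb => ?_
    refine ⟨L.mul_mem (L.mul_mem hl (hL.BL hb)) (L.inv_mem hl), fun c hc => ?_⟩
    have hc' : l⁻¹ * c * l ∈ C := by simpa using hcon (L.inv_mem hl) hc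
    refine hD _ hc' _ (subset_closure ⟨l, hl, b, hb, ?_⟩)
    rw [z]; group
  refine hC fun c hc l hl ho => ?_
  exact h.n_odd hL.LX (hCY hc) hl ho fun v hv => (hLU hl).2 c hc l hl ho v hv

end Dat

namespace Mn

variable {h : Dat X T O B R V lam} {C : Subgroup H} {c₁ : H}

theorem c1Y (m : Mn h L C c₁) : c₁ ∈ h.YY := m.CY m.c1

theorem moved (m : Mn h L C c₁) : ∃ b ∈ B, b * c₁ * b⁻¹ ≠ c₁ := by
  by_contra hcon
  push Not at hcon
  have h1 : C ≤ ⊥ := m.gen ⊥ fun l hl b hb => by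
    rw [(h.z_eq_one m.c1Y).2 (hcon b hb)]; simp
  apply m.nn
  intro d hd
  rw [mem_bot.1 (h1 hd)]
  exact h.PP_one

theorem z_memC (m : Mn h L C c₁) (hL : LL X T B L) {c b : H} (hc : c ∈ C) (hb : b ∈ B) : z c b ∈ C :=
  C.mul_mem hc (m.LI b (hL.BL hb) c hc)

theorem Z_le_C (m : Mn h L C c₁) (hL : LL X T B L) {c : H} (hc : c ∈ C) : h.Z (m.CY hc) ≤ C := by
  intro y hy
  obtain ⟨b, hb, rfl⟩ := (h.mem_Z _).1 hy
  exact m.z_memC hL hc hb

/-- `cm C = {x : [x,c₁] ∈ cm B}` -/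
theorem mem_cm (m : Mn h L C c₁) (hL : LL X T B L) {x : W} : x ∈ cm R C ↔ n c₁ x ∈ cm R B := by
  constructor
  · intro hx
    exact (h.mem_cm_Z m.c1Y).1 (cm_anti (m.Z_le_C hL m.c1) hx)
  · intro hx
    have hx' := (h.mem_cm_Z m.c1Y).2 hx
    let U : Subgroup H :=
      { carrier := {u | u ∈ h.YY ∧ n u x ∈ R}
        one_mem' := ⟨h.YY.one_mem, by rw [n_one h.two]; exact R.zero_mem⟩
        mul_mem' := by
          rintro a b ⟨ha, ha'⟩ ⟨hb, hb'⟩
          refine ⟨h.YY.mul_mem ha hb, ?_⟩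
          rw [n_mul h.two, h.nR a hb', add_zero]
          exact R.add_mem ha' hb'
        inv_mem' := by
          rintro a ⟨ha, ha'⟩
          refine ⟨h.YY.inv_mem ha, ?_⟩
          rw [n_inv h.two]; exact h.smulR _ ha' }
    have hCU : C ≤ U := m.gen U fun l hl b hb => by
      have hz := h.z_mem m.c1Y hb
      refine ⟨h.conj_YY (hL.LX hl) hz, ?_⟩
      rw [n_conj, smul_eq h.two l⁻¹ x, n_add]
      refine h.smulR l (R.add_mem (hx' _ ((h.mem_Z m.c1Y).2 ⟨b, hb, rfl⟩)) ?_)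
      exact hz.1 _ (h.nLV hL (L.inv_mem hl) x)
    intro c hc
    exact (hCU hc).2

theorem V_le_cm (m : Mn h L C c₁) : V ≤ cm R C := fun v hv c hc => (m.CY hc).1 v hv

theorem index_cm [Finite H] [Finite W] (m : Mn h L C c₁) (hL : LL X T B L) : (cm R C).index = Nat.card B := by
  have h1 : cm R C = cm R (h.Z m.c1Y) := by
    ext x
    rw [m.mem_cm hL, h.mem_cm_Z]
  rw [h1]
  exact (h.one m.c1Y m.moved).2.2.1

/-- `z(c,B) = z(c₁,B)` for every `c ∈ C` moved by `B` -/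
theorem Z_eq [Finite H] [Finite W] (m : Mn h L C c₁) (hL : LL X T B L) {c : H} (hc : c ∈ C)
    (hm : ∃ b ∈ B, b * c * b⁻¹ ≠ c) : h.Z (m.CY hc) = h.Z m.c1Y := by
  let E : Subgroup H := closure {y | ∃ c ∈ C, ∃ b ∈ B, y = z c b}
  have hEC : E ≤ C := by
    rw [closure_le]
    rintro _ ⟨c, hc, b, hb, rfl⟩
    exact m.z_memC hL hc hb
  have hEO : E ≤ O := by
    rw [closure_le]
    rintro _ ⟨c, hc, b, hb, rfl⟩
    exact h.z_memO (m.CY hc) hb
  have h1 : Nat.card E ≤ (cm R E).index := h.no E hEO fun e he => h.sq_YY (m.CY (hEC he))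
  have h2 : (cm R E).index ≤ (cm R C).index :=
    Nat.le_of_dvd (Nat.pos_of_ne_zero AddSubgroup.index_ne_zero_of_finite)
      (AddSubgroup.index_dvd_of_le (cm_anti hEC))
  have h3 : Nat.card E ≤ Nat.card B := h1.trans (h2.trans (m.index_cm hL).le)
  have key : ∀ (c : H) (hc : c ∈ C), (∃ b ∈ B, b * c * b⁻¹ ≠ c) → h.Z (m.CY hc) = E := by
    intro c hc hm
    refine eq_of_le_of_card_ge ?_ ?_
    · intro y hy
      obtain ⟨b, hb, rfl⟩ := (h.mem_Z _).1 hy
      exact subset_closure ⟨c, hc, b, hb, rfl⟩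
    · rw [(h.one (m.CY hc) hm).2.1]; exact h3
  rw [key c hc hm, key c₁ m.c1 m.moved]

theorem z_memZ [Finite H] [Finite W] (m : Mn h L C c₁) (hL : LL X T B L) {c b : H} (hc : c ∈ C) (hb : b ∈ B) :
    z c b ∈ h.Z m.c1Y := by
  by_cases hm : ∃ b ∈ B, b * c * b⁻¹ ≠ c
  · rw [← m.Z_eq hL hc hm]
    exact (h.mem_Z _).2 ⟨b, hb, rfl⟩
  · push Not at hm
    rw [(h.z_eq_one (m.CY hc)).2 (hm b hb)]
    exact (h.Z m.c1Y).one_mem

/-- an `L`-invariant subgroup of `C` is `C` or centralised by `L` -/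
theorem dich [Finite H] [Finite W] (m : Mn h L C c₁) (hL : LL X T B L) {D : Subgroup H} (hDC : D ≤ C)
    (hDn : ∀ l ∈ L, ∀ d ∈ D, l * d * l⁻¹ ∈ D) : C ≤ D ∨ ∀ l ∈ L, ∀ d ∈ D, l * d * l⁻¹ = d := by
  by_cases hm : ∃ d ∈ D, ∃ b ∈ B, b * d * b⁻¹ ≠ d
  · left
    obtain ⟨d, hd, hm'⟩ := hm
    refine m.gen D fun l hl b hb => ?_
    have h1 : z c₁ b ∈ h.Z (m.CY (hDC hd)) := by
      rw [m.Z_eq hL (hDC hd) hm']
      exact (h.mem_Z _).2 ⟨b, hb, rfl⟩
    obtain ⟨b', hb', h2⟩ := (h.mem_Z _).1 h1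
    rw [← h2]
    exact hDn l hl _ (D.mul_mem hd (hDn b' (hL.BL hb') d hd))
  · right
    push Not at hm
    have h1 : L ≤ centralizer (D : Set H) := hL.gen _ fun l hl b hb => by
      rw [mem_centralizer_iff]
      intro d hd
      have h2 : l⁻¹ * d * l ∈ D := by simpa using hDn _ (L.inv_mem hl) d hd
      have h3 := hm _ h2 b hb
      have h4 : b * (l⁻¹ * d * l) = (l⁻¹ * d * l) * b := mul_inv_eq_iff_eq_mul.1 h3
      calc d * (l * b * l⁻¹) = l * ((l⁻¹ * d * l) * b) * l⁻¹ := by group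
        _ = l * (b * (l⁻¹ * d * l)) * l⁻¹ := by rw [h4]
        _ = l * b * l⁻¹ * d := by group
    intro l hl d hd
    rw [← (mem_centralizer_iff.1 (h1 hl)) d hd]
    group

end Mn

end Cfsg.Agent.Omega.FOne.ThmR

end

section


/-!
# THEOREM A, step (4): the forms `f_x(c,d) = [[x,d],c]` on `C`
-/

set_option autoImplicit false
set_option linter.unusedSectionVars false

namespace Cfsg.Agent.Omega.FOne.ThmR

open Subgroup

section fn

/-- an additive functional to `ZMod 2` not vanishing at `w` -/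
theorem exists_fn {W : Type*} [AddCommGroup W] (two : ∀ w : W, w + w = 0) {w : W} (hw : w ≠ 0) :
    ∃ ρ : W →+ ZMod 2, ρ w ≠ 0 := by
  let _ : Module (ZMod 2) W := AddCommGroup.zmodModule (n := 2) fun x => by rw [two_nsmul, two]
  by_contra hcon
  push Not at hcon
  apply hw
  rw [← Module.forall_dual_apply_eq_zero_iff (ZMod 2)]
  intro φ
  exact hcon φ.toAddMonoidHom

/-- the sign of an element of `ZMod 2` -/
def sgn (a : ZMod 2) : ℚ := if a = 0 then 1 else -1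

theorem sgn_zero : sgn 0 = 1 := if_pos rfl

theorem sgn_add (a b : ZMod 2) : sgn (a + b) = sgn a * sgn b := by
  have h : ∀ a b : ZMod 2, (a = 0 ∨ a = 1) := by decide
  have h11 : (1 : ZMod 2) + 1 = 0 := by decide
  have h10 : (1 : ZMod 2) ≠ 0 := by decide
  rcases h a 0 with rfl | rfl <;> rcases h b 0 with rfl | rfl
  · simp [sgn]
  · simp [sgn]
  · simp [sgn]
  · rw [h11, sgn_zero, sgn, if_neg h10]; norm_num

theorem sgn_inj {a b : ZMod 2} (hab : sgn a = sgn b) : a = b := by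
  have h : ∀ a b : ZMod 2, (a = 0 ∨ a = 1) := by decide
  have h10 : (1 : ZMod 2) ≠ 0 := by decide
  rcases h a 0 with rfl | rfl <;> rcases h b 0 with rfl | rfl
  · rfl
  · rw [sgn_zero, sgn, if_neg h10] at hab; norm_num at hab
  · rw [sgn_zero, sgn, if_neg h10] at hab; norm_num at hab
  · rfl

end fn

variable {H W : Type*} [Group H] [AddCommGroup W] [DistribMulAction H W] {X T O B L : Subgroup H}
  {R V : AddSubgroup W} {lam : W}

namespace Mn

variable {h : Dat X T O B R V lam} {C : Subgroup H} {c₁ : H}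

/-- the elements of `z(c₁,B)` centralise `V ∩ cm B` -/
theorem phi_zero (m : Mn h L C c₁) {y : H} (hy : y ∈ h.Z m.c1Y) {v : W} (hv : v ∈ V) (hv' : v ∈ cm R B) :
    n y v = 0 := by
  obtain ⟨b, hb, rfl⟩ := (h.mem_Z _).1 hy
  rw [h.n_z_V m.c1Y hb hv]
  exact h.nR _ (hv' b hb)

theorem f_symm (m : Mn h L C c₁) {c d : H} (hc : c ∈ C) (hd : d ∈ C) (x : W) :
    n c (n d x) = n d (n c x) := h.n_symm (h.comm_YY (m.CY hc) (m.CY hd)) x

/-- `f_x(z(c,b), d) = f_x(c, z(d,b))` -/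
theorem f_z (m : Mn h L C c₁) {c d b : H} (hc : c ∈ C) (hd : d ∈ C) (hb : b ∈ B) (x : W) :
    n (z c b) (n d x) = n c (n (z d b) x) := by
  rw [h.n_z_V (m.CY hc) hb ((m.CY hd).2 x)]
  have h1 := h.n_z (m.CY hd) hb x
  have h2 := h.nR c h1
  rw [n_add] at h2
  exact (eq_of_add_eq_zero h.two h2).symm

/-- `f` is `L`-invariant -/
theorem f_conj (m : Mn h L C c₁) (hL : LL X T B L) {l c d : H} (hl : l ∈ L) (hc : c ∈ C) (hd : d ∈ C) (x : W) :
    n (l * c * l⁻¹) (n (l * d * l⁻¹) x) = n c (n d x) := by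
  have hlX := hL.LX hl
  have h1 : n (l * d * l⁻¹) x = l • n d x + l • n d (n l⁻¹ x) := by
    rw [n_conj, smul_eq h.two l⁻¹ x, n_add, smul_add]
  have h2 : l • n d (n l⁻¹ x) ∈ R := h.smulR l ((m.CY hd).1 _ (h.nLV hL (L.inv_mem hl) x))
  rw [h1, n_add, h.nR _ h2, add_zero, h.n_conj_V hlX (m.CY hc) (h.XV l hlX _ ((m.CY hd).2 x)), inv_smul_smul]

/-- some `f_y` is not zero -/
theorem exists_f [Finite H] [Finite W] (m : Mn h L C c₁) (hL : LL X T B L) :
    ∃ y : W, ∃ c ∈ C, ∃ d ∈ C, n c (n d y) ≠ 0 := by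
  by_contra hcon
  push Not at hcon
  have h1 : ∀ y ∈ h.Z m.c1Y, ∀ v ∈ V, n y v = 0 := by
    intro y hy v hv
    obtain ⟨x, m', hm', rfl⟩ := (h.one m.c1Y m.moved).2.2.2 v
    have hx : n c₁ x ∈ V := m.c1Y.2 x
    have hmV : m' ∈ V := by
      have := V.add_mem hx hv
      rwa [← add_assoc, h.two, zero_add] at this
    rw [n_add, hcon x y (m.Z_le_C hL m.c1 hy) c₁ m.c1, m.phi_zero hy hmV hm', add_zero]
  let U : Subgroup H :=
    { carrier := {u | u ∈ h.YY ∧ ∀ v ∈ V, n u v = 0}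
      one_mem' := ⟨h.YY.one_mem, fun v _ => n_one h.two v⟩
      mul_mem' := by
        rintro a b ⟨ha, ha'⟩ ⟨hb, hb'⟩
        refine ⟨h.YY.mul_mem ha hb, fun v hv => ?_⟩
        rw [h.n_mul_V hb hv, ha' v hv, hb' v hv, add_zero]
      inv_mem' := by
        rintro a ⟨ha, ha'⟩
        refine ⟨h.YY.inv_mem ha, fun v hv => ?_⟩
        rw [n_inv h.two, ha' v hv, smul_zero] }
  have hCU : C ≤ U := m.gen U fun l hl b hb => by
    have hz := h.z_mem m.c1Y hb
    refine ⟨h.conj_YY (hL.LX hl) hz, fun v hv => ?_⟩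
    rw [h.n_conj_V (hL.LX hl) hz hv]
    exact h1 _ ((h.mem_Z _).2 ⟨b, hb, rfl⟩) _ (h.XV _ (X.inv_mem (hL.LX hl)) v hv)
  refine m.nn fun d hd l hl ho v hv => ?_
  exact (hCU hd).2 _ (h.n_memV (hL.LX hl) hv)

/-- `z(c₁,B) ∩ C(L) = 1` -/
theorem Z_cap [Finite H] [Finite W] (m : Mn h L C c₁) (hL : LL X T B L) {y : H} (hy : y ∈ h.Z m.c1Y)
    (hyL : ∀ l ∈ L, l * y * l⁻¹ = y) : y = 1 := by
  obtain ⟨b, hb, rfl⟩ := (h.mem_Z _).1 hy
  have hzY := h.z_mem m.c1Y hb
  have h1 : b = 1 := by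
    refine h.eq_one_of_CV hL hb fun v _ => ?_
    obtain ⟨x, m', hm', rfl⟩ := (h.one m.c1Y m.moved).2.2.2 v
    have hRL : R ≤ cm R L := fun r hr l _ => by rw [h.nR l hr]; exact R.zero_mem
    have h2 : n (z c₁ b) x ∈ cm R L := by
      intro l hl
      have h3 : l * z c₁ b = z c₁ b * l := mul_inv_eq_iff_eq_mul.1 (hyL l hl)
      rw [h.n_symm h3]
      exact hzY.1 _ (h.nLV hL hl x)
    have h3 := (cm R L).add_mem h2 (hRL (h.n_z m.c1Y hb x))
    rw [← add_assoc, h.two, zero_add] at h3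
    rw [n_add]
    exact (cm R L).add_mem h3 (hRL (hm' b hb))
  rw [h1]
  exact (h.z_eq_one m.c1Y).2 (by group)

/-- the radical of a non-zero `ρ ∘ f_y` meets `z(c₁,B)` trivially -/
theorem rad [Finite H] [Finite W] (m : Mn h L C c₁) (hL : LL X T B L) {A : Type*} [AddCommGroup A] (ρ : W →+ A)
    {y : W} (hy : ∃ c ∈ C, ∃ d ∈ C, ρ (n c (n d y)) ≠ 0) {e : H} (he : e ∈ h.Z m.c1Y)
    (h0 : ∀ d ∈ C, ρ (n e (n d y)) = 0) : e = 1 := by
  let D : Subgroup H :=
    { carrier := {c | c ∈ C ∧ ∀ d ∈ C, ρ (n c (n d y)) = 0}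
      one_mem' := ⟨C.one_mem, fun d _ => by rw [n_one h.two, map_zero]⟩
      mul_mem' := by
        rintro a b ⟨ha, ha'⟩ ⟨hb, hb'⟩
        refine ⟨C.mul_mem ha hb, fun d hd => ?_⟩
        rw [h.n_mul_V (m.CY hb) ((m.CY hd).2 y), map_add, ha' d hd, hb' d hd, add_zero]
      inv_mem' := by
        rintro a ⟨ha, ha'⟩
        refine ⟨C.inv_mem ha, fun d hd => ?_⟩
        rw [h.inv_YY (m.CY ha)]; exact ha' d hd }
  have hDC : D ≤ C := fun c hc => hc.1
  have hDn : ∀ l ∈ L, ∀ d ∈ D, l * d * l⁻¹ ∈ D := by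
    rintro l hl c ⟨hc, hc'⟩
    refine ⟨m.LI l hl c hc, fun d hd => ?_⟩
    have hd' : l⁻¹ * d * l ∈ C := by simpa using m.LI _ (L.inv_mem hl) d hd
    have h1 := m.f_conj hL hl hc hd' y
    have h2 : l * (l⁻¹ * d * l) * l⁻¹ = d := by group
    rw [h2] at h1
    rw [h1]; exact hc' _ hd'
  rcases m.dich hL hDC hDn with h1 | h1
  · obtain ⟨c, hc, d, hd, h2⟩ := hy
    exact absurd ((h1 hc).2 d hd) h2
  · exact m.Z_cap hL he fun l hl => h1 l hl e ⟨m.Z_le_C hL m.c1 he, h0⟩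

/-- the elements of `C` centralised by `B`, in `C` -/
def CC (B C : Subgroup H) : Subgroup C := (centralizer (B : Set H)).subgroupOf C

theorem mem_CC {c : C} : c ∈ CC B C ↔ ∀ b ∈ B, b * (c : H) * b⁻¹ = c := by
  rw [CC, mem_subgroupOf, mem_centralizer_iff]
  exact forall₂_congr fun b _ => by rw [mul_inv_eq_iff_eq_mul]

theorem card_le_CC [Finite H] [Finite W] (m : Mn h L C c₁) (hL : LL X T B L) :
    Nat.card B ≤ (CC B C).index := by
  obtain ⟨y, c₀, hc₀, d₀, hd₀, hne⟩ := m.exists_f hL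
  obtain ⟨ρ, hρ⟩ := exists_fn h.two hne
  have hex : ∃ c ∈ C, ∃ d ∈ C, ρ (n c (n d y)) ≠ 0 := ⟨c₀, hc₀, d₀, hd₀, hρ⟩
  rw [← (h.one m.c1Y m.moved).2.1]
  have hZC := m.Z_le_C hL m.c1
  let χ : h.Z m.c1Y → (C →* ℚ) := fun e =>
    { toFun := fun c => sgn (ρ (n (c : H) (n (e : H) y)))
      map_one' := by
        show sgn (ρ (n (1 : H) _)) = 1
        rw [n_one h.two, map_zero, sgn_zero]
      map_mul' := fun a b => by
        show sgn (ρ (n ((a : H) * b) _)) = _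
        rw [h.n_mul_V (m.CY b.2) ((m.CY (hZC e.2)).2 y), map_add, sgn_add] }
  have hχ : ∀ e c, χ e c = sgn (ρ (n (c : H) (n (e : H) y))) := fun _ _ => rfl
  refine NO3b.Dual.card_homs_le (CC B C) χ ?_ ?_
  · intro e e' hee
    have h1 : (e : H) * e' = 1 := by
      refine m.rad hL ρ hex ((h.Z m.c1Y).mul_mem e.2 e'.2) fun d hd => ?_
      have h2 : χ e ⟨d, hd⟩ = χ e' ⟨d, hd⟩ := by rw [hee]
      rw [hχ, hχ] at h2
      have h3 := sgn_inj h2
      have h4 : ∀ a : ZMod 2, a + a = 0 := by decide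
      rw [h.n_mul_V (m.CY (hZC e'.2)) ((m.CY hd).2 y), map_add, m.f_symm (hZC e.2) hd,
        m.f_symm (hZC e'.2) hd, h3, h4]
    apply Subtype.ext
    have h2 : (e' : H)⁻¹ = e' := h.inv_YY (m.CY (hZC e'.2))
    rw [← h2]
    exact eq_inv_of_mul_eq_one_left h1
  · intro e c hc
    rw [hχ]
    obtain ⟨b, hb, hbe⟩ := (h.mem_Z _).1 e.2
    have h1 : z (c : H) b = 1 := (h.z_eq_one (m.CY c.2)).2 (mem_CC.1 hc b hb)
    rw [m.f_symm c.2 (hZC e.2), ← hbe, m.f_z m.c1 c.2 hb, h1, n_one h.two, n_zero, map_zero, sgn_zero]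

theorem R_le_cm (h : Dat X T O B R V lam) (E : Subgroup H) : R ≤ cm R E := fun r hr l _ => by
  rw [h.nR l hr]; exact R.zero_mem

/-- `W = [x, C] + cm B` for `x ∉ cm C` -/
theorem full [Finite H] [Finite W] (m : Mn h L C c₁) (hL : LL X T B L) {x : W} (hx : x ∉ cm R C) (w : W) :
    ∃ c ∈ C, w + n c x ∈ cm R B := by
  let Q := W ⧸ cm R B
  have hadd : ∀ a ∈ C, ∀ b ∈ C, (QuotientAddGroup.mk (n (a * b) x) : W ⧸ cm R B) =
      QuotientAddGroup.mk (n a x) + QuotientAddGroup.mk (n b x) := by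
    intro a ha b hb
    rw [n_mul h.two, ← QuotientAddGroup.mk_add, QuotientAddGroup.eq]
    have h1 : -(n a x + n b x + n a (n b x)) + (n a x + n b x) = -(n a (n b x)) := by abel
    rw [h1]
    exact (cm R B).neg_mem (R_le_cm h B ((m.CY ha).1 _ ((m.CY hb).2 x)))
  let ψ : C →* Multiplicative (W ⧸ cm R B) :=
    { toFun := fun c => Multiplicative.ofAdd (QuotientAddGroup.mk (n (c : H) x))
      map_one' := by
        show Multiplicative.ofAdd (QuotientAddGroup.mk (n (1 : H) x) : W ⧸ cm R B) = 1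
        rw [n_one h.two]; rfl
      map_mul' := fun a b => by
        show Multiplicative.ofAdd (QuotientAddGroup.mk (n ((a : H) * b) x) : W ⧸ cm R B) = _
        rw [hadd a a.2 b b.2]; rfl }
  have hker : ψ.ker ≤ CC B C := by
    intro c hc
    have h1 : (QuotientAddGroup.mk (n (c : H) x) : W ⧸ cm R B) = 0 := hc
    rw [QuotientAddGroup.eq_zero_iff] at h1
    rw [mem_CC]
    by_contra hcon
    push Not at hcon
    apply hx
    rw [m.mem_cm hL, ← h.mem_cm_Z m.c1Y, ← m.Z_eq hL c.2 hcon, h.mem_cm_Z]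
    exact h1
  have h1 : Nat.card (Multiplicative (W ⧸ cm R B)) ≤ Nat.card ψ.range := by
    rw [← index_ker ψ]
    calc Nat.card (Multiplicative (W ⧸ cm R B)) = (cm R B).index := rfl
      _ = Nat.card B := h.ex.symm
      _ ≤ (CC B C).index := m.card_le_CC hL
      _ ≤ ψ.ker.index := Nat.le_of_dvd (Nat.pos_of_ne_zero index_ne_zero_of_finite) (index_dvd_of_le hker)
  have h2 : ψ.range = ⊤ := by
    apply eq_top_of_card_eq
    exact le_antisymm (card_le_card_group _) h1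
  have h3 : Multiplicative.ofAdd (QuotientAddGroup.mk w : W ⧸ cm R B) ∈ ψ.range := h2 ▸ mem_top _
  obtain ⟨c, hc⟩ := h3
  have h4 : (QuotientAddGroup.mk (n (c : H) x) : W ⧸ cm R B) = QuotientAddGroup.mk w := hc
  rw [QuotientAddGroup.eq, neg_eq h.two] at h4
  exact ⟨c, c.2, by rwa [add_comm]⟩

/-- `[x, C] + R` does not depend on `x ∉ cm C` -/
theorem same [Finite H] [Finite W] (m : Mn h L C c₁) (hL : LL X T B L) (x : W) {x' : W} (hx : x' ∉ cm R C)
    {c : H} (hc : c ∈ C) : ∃ c' ∈ C, n c' x' + n c x ∈ R := by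
  -- `E = [x', C] + R`
  let E : AddSubgroup W :=
    { carrier := {w | ∃ c ∈ C, n c x' + w ∈ R}
      zero_mem' := ⟨1, C.one_mem, by rw [n_one h.two, add_zero]; exact R.zero_mem⟩
      add_mem' := by
        rintro a b ⟨c, hc, hc'⟩ ⟨d, hd, hd'⟩
        refine ⟨c * d, C.mul_mem hc hd, ?_⟩
        rw [n_mul h.two]
        have h1 : n c x' + n d x' + n c (n d x') + (a + b) = (n c x' + a) + (n d x' + b) + n c (n d x') := by
          abel
        rw [h1]
        exact R.add_mem (R.add_mem hc' hd') ((m.CY hc).1 _ ((m.CY hd).2 x'))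
      neg_mem' := by
        rintro a ⟨c, hc, hc'⟩
        exact ⟨c, hc, by rwa [neg_eq h.two]⟩ }
  have hRE : R ≤ E := fun r hr => ⟨1, C.one_mem, by rw [n_one h.two, zero_add]; exact hr⟩
  have hmemE : ∀ c ∈ C, n c x' ∈ E := fun c hc => ⟨c, hc, by rw [h.two]; exact R.zero_mem⟩
  have hEL : ∀ l ∈ L, ∀ w ∈ E, l • w ∈ E := by
    rintro l hl w ⟨c, hc, hc'⟩
    refine ⟨l * c * l⁻¹, m.LI l hl c hc, ?_⟩
    rw [n_conj, smul_eq h.two l⁻¹ x', n_add, smul_add]
    have h1 : l • n c x' + l • n c (n l⁻¹ x') + l • w = l • (n c x' + w) + l • n c (n l⁻¹ x') := by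
      rw [smul_add]; abel
    rw [h1]
    exact R.add_mem (h.smulR l hc') (h.smulR l ((m.CY hc).1 _ (h.nLV hL (L.inv_mem hl) x')))
  have hZ : ∀ b ∈ B, n (z c₁ b) x ∈ E := by
    intro b hb
    obtain ⟨c, hc, hw⟩ := m.full hL hx (n c₁ x)
    have h1 : n (z c₁ b) x + n b (n c₁ x) ∈ E := hRE (h.n_z m.c1Y hb x)
    have h2 : n b (n c₁ x) + n b (n c x') ∈ E := by
      rw [← n_add]; exact hRE (hw b hb)
    have h3 : n (z c b) x' + n b (n c x') ∈ E := hRE (h.n_z (m.CY hc) hb x')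
    have h4 : n (z c b) x' ∈ E := hmemE _ (m.z_memC hL hc hb)
    have h5 := E.add_mem (E.add_mem h1 h2) (E.add_mem h3 h4)
    have e1 := h.two (n b (n c₁ x))
    have e2 := h.two (n b (n c x'))
    have e3 := h.two (n (z c b) x')
    have h6 : n (z c₁ b) x + n b (n c₁ x) + (n b (n c₁ x) + n b (n c x')) +
        (n (z c b) x' + n b (n c x') + n (z c b) x') = n (z c₁ b) x := by
      calc _ = n (z c₁ b) x + (n b (n c₁ x) + n b (n c₁ x)) + (n b (n c x') + n b (n c x')) +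
            (n (z c b) x' + n (z c b) x') := by abel
        _ = _ := by rw [e1, e2, e3]; abel
    rwa [h6] at h5
  let U : Subgroup H :=
    { carrier := {u | u ∈ h.YY ∧ n u x ∈ E}
      one_mem' := ⟨h.YY.one_mem, by rw [n_one h.two]; exact E.zero_mem⟩
      mul_mem' := by
        rintro a b ⟨ha, ha'⟩ ⟨hb, hb'⟩
        refine ⟨h.YY.mul_mem ha hb, ?_⟩
        rw [n_mul h.two]
        exact E.add_mem (E.add_mem ha' hb') (hRE (ha.1 _ (hb.2 x)))
      inv_mem' := by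
        rintro a ⟨ha, ha'⟩
        refine ⟨h.YY.inv_mem ha, ?_⟩
        rw [h.inv_YY ha]; exact ha' }
  have hCU : C ≤ U := m.gen U fun l hl b hb => by
    have hz := h.z_mem m.c1Y hb
    refine ⟨h.conj_YY (hL.LX hl) hz, ?_⟩
    rw [n_conj, smul_eq h.two l⁻¹ x, n_add]
    exact hEL l hl _ (E.add_mem (hZ b hb) (hRE (hz.1 _ (h.nLV hL (L.inv_mem hl) x))))
  exact (hCU hc).2

/-- `f_x ≠ 0` for `x ∉ cm C` -/
theorem f_ne [Finite H] [Finite W] (m : Mn h L C c₁) (hL : LL X T B L) {x : W} (hx : x ∉ cm R C) :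
    ∃ c ∈ C, ∃ d ∈ C, n c (n d x) ≠ 0 := by
  obtain ⟨y, c, hc, d, hd, hne⟩ := m.exists_f hL
  obtain ⟨d', hd', h1⟩ := m.same hL y hx hd
  refine ⟨c, hc, d', hd', fun h2 => hne ?_⟩
  have h3 := h.nR c h1
  rw [n_add, h2, zero_add] at h3
  exact h3

theorem radx [Finite H] [Finite W] (m : Mn h L C c₁) (hL : LL X T B L) {x : W} (hx : x ∉ cm R C) {e : H}
    (he : e ∈ h.Z m.c1Y) (h0 : ∀ d ∈ C, n e (n d x) = 0) : e = 1 :=
  m.rad hL (AddMonoidHom.id W) (m.f_ne hL hx) he h0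

end Mn

end Cfsg.Agent.Omega.FOne.ThmR

end

section


/-!
# The hypothesis `cover` of THEOREM A

`B` exact, minimal, no over-offenders below `B`, and no over-offender for the image of `B` on `V / R`:
`|B| ≤ |C_B(V/R)| |V : V ∩ cm B|`; `B` is not trivial on `V / R`: then `W = V + cm B`.
-/

set_option autoImplicit false
set_option linter.unusedSectionVars false

namespace Cfsg.Agent.Omega.FOne.ThmR

open Subgroup

variable {H W : Type*} [Group H] [AddCommGroup W] [DistribMulAction H W]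

/-- `C_B(V/R)` -/
def B0 (two : ∀ w : W, w + w = 0) (B : Subgroup H) (R V : AddSubgroup W) (fixR : ∀ b ∈ B, ∀ r ∈ R, b • r = r) :
    Subgroup H where
  carrier := {b | b ∈ B ∧ ∀ v ∈ V, n b v ∈ R}
  one_mem' := ⟨B.one_mem, fun v _ => by rw [n_one two]; exact R.zero_mem⟩
  mul_mem' := by
    rintro a b ⟨ha, ha'⟩ ⟨hb, hb'⟩
    refine ⟨B.mul_mem ha hb, fun v hv => ?_⟩
    have h1 : n a (n b v) = 0 := by rw [n, fixR a ha _ (hb' v hv), two]
    rw [n_mul two, h1, add_zero]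
    exact R.add_mem (ha' v hv) (hb' v hv)
  inv_mem' := by
    rintro a ⟨ha, ha'⟩
    refine ⟨B.inv_mem ha, fun v hv => ?_⟩
    rw [n_inv two, fixR _ (B.inv_mem ha) _ (ha' v hv)]
    exact ha' v hv

variable {B : Subgroup H} {R V : AddSubgroup W} {two : ∀ w : W, w + w = 0}
  {fixR : ∀ b ∈ B, ∀ r ∈ R, b • r = r}

theorem mem_B0 {b : H} : b ∈ B0 two B R V fixR ↔ b ∈ B ∧ ∀ v ∈ V, n b v ∈ R := Iff.rfl

theorem B0_le : B0 two B R V fixR ≤ B := fun _ hb => hb.1

theorem cover_of [Finite H] [Finite W] (ex : Nat.card B = (cm R B).index)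
    (no : ∀ E ≤ B, Nat.card E ≤ (cm R E).index)
    (min : ∀ E ≤ B, E ≠ ⊥ → Nat.card E = (cm R E).index → E = B)
    (hV : Nat.card B ≤ Nat.card (B0 two B R V fixR) * (cm R B).relIndex V)
    (hne : ∃ b ∈ B, ∃ v ∈ V, n b v ∉ R) : ∀ w, ∃ v ∈ V, w + v ∈ cm R B := by
  set K := cm R B with hK
  set C := cm R (B0 two B R V fixR) with hC
  have hVC : V ≤ C := fun v hv b hb => hb.2 v hv
  have hKC : K ≤ C := cm_anti B0_le
  have e2 : K.relIndex V * (V ⊔ K).index = K.index := by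
    have h1 : K.relIndex (V ⊔ K) = K.relIndex V := AddSubgroup.relIndex_sup_right _ _
    rw [← h1]
    exact AddSubgroup.relIndex_mul_index le_sup_right
  have e3 : C.index ≤ (V ⊔ K).index :=
    Nat.le_of_dvd (Nat.pos_of_ne_zero AddSubgroup.index_ne_zero_of_finite)
      (AddSubgroup.index_dvd_of_le (sup_le hVC hKC))
  have e5 := no _ (B0_le (two := two) (B := B) (R := R) (V := V) (fixR := fixR))
  have p1 : 0 < K.relIndex V := by
    have h1 := AddSubgroup.index_ne_zero_of_finite (H := K)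
    rw [← e2] at h1
    exact Nat.pos_of_ne_zero fun h2 => h1 (by rw [h2, zero_mul])
  have e8 : (V ⊔ K).index ≤ Nat.card (B0 two B R V fixR) := by
    rw [ex, ← e2, mul_comm] at hV
    exact Nat.le_of_mul_le_mul_right hV p1
  have e10 : Nat.card (B0 two B R V fixR) = C.index := le_antisymm e5 (e3.trans e8)
  have hbot : B0 two B R V fixR = ⊥ := by
    by_contra hcon
    have h1 := min _ B0_le hcon e10
    obtain ⟨b, hb, v, hv, hbv⟩ := hne
    rw [← h1] at hb
    exact hbv (hb.2 v hv)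
  have h1 : V ⊔ K = ⊤ := by
    rw [← AddSubgroup.index_eq_one]
    have h2 : Nat.card (B0 two B R V fixR) = 1 := by rw [hbot]; exact card_bot
    rw [h2] at e8
    have h3 : (V ⊔ K).index ≠ 0 := AddSubgroup.index_ne_zero_of_finite
    omega
  intro w
  have h2 : w ∈ V ⊔ K := h1 ▸ AddSubgroup.mem_top w
  rw [AddSubgroup.mem_sup] at h2
  obtain ⟨v, hv, m, hm, rfl⟩ := h2
  refine ⟨v, hv, ?_⟩
  have h3 : v + m + v = m + (v + v) := by abel
  rw [h3, two, add_zero]
  exact hm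

end Cfsg.Agent.Omega.FOne.ThmR

end
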